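import Mathlib

/-!
# Group algebras in characteristic `p`: truncation to centralizers, block idempotents of subgroups

Everything lives in `MonoidAlgebra k G`; a block idempotent of a subgroup `K` is an element supported in `K`.
-/

set_option autoImplicit false
set_option linter.unusedSectionVars false

namespace CfsgLib.PairAlg

open MonoidAlgebra

variable {k : Type*} [Field k] {G : Type*} [Group G] [Fintype G]

/-- Conjugation on the group algebra. -/
noncomputable def cj (g : G) : MonoidAlgebra k G →+* MonoidAlgebra k G :=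
  MonoidAlgebra.mapDomainRingHom k (MulAut.conj g).toMonoidHom

theorem coeff_cj (g : G) (a : MonoidAlgebra k G) (x : G) : (cj g a).coeff x = a.coeff (g⁻¹ * x * g) := by
  have h : x = (MulAut.conj g) (g⁻¹ * x * g) := by
    simp only [MulAut.conj_apply]; group
  conv_lhs => rw [h]
  exact Finsupp.mapDomain_apply (MulAut.conj g).injective _ _

theorem cj_cj (g h : G) (a : MonoidAlgebra k G) : cj g (cj h a) = cj (g * h) a := by
  ext x; simp only [coeff_cj, mul_inv_rev, mul_assoc]

theorem cj_one_apply (a : MonoidAlgebra k G) : cj (1 : G) a = a := by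
  ext x; simp [coeff_cj]

theorem cj_inv_cj (g : G) (a : MonoidAlgebra k G) : cj g⁻¹ (cj g a) = a := by
  rw [cj_cj, inv_mul_cancel, cj_one_apply]

theorem cj_cj_inv (g : G) (a : MonoidAlgebra k G) : cj g (cj g⁻¹ a) = a := by
  rw [cj_cj, mul_inv_cancel, cj_one_apply]

theorem cj_injective (g : G) : Function.Injective (cj (k := k) g) := fun a b h => by
  rw [← cj_inv_cj g a, h, cj_inv_cj]

theorem cj_smul (g : G) (c : k) (a : MonoidAlgebra k G) : cj g (c • a) = c • cj g a := by
  ext x; simp [coeff_cj]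

/-- Invariance under conjugation by a subgroup. -/
def Fix (P : Subgroup G) (a : MonoidAlgebra k G) : Prop := ∀ u ∈ P, cj u a = a

theorem Fix.coeff {P : Subgroup G} {a : MonoidAlgebra k G} (h : Fix P a) {u : G} (hu : u ∈ P) (x : G) :
    a.coeff (u * x * u⁻¹) = a.coeff x := by
  conv_lhs => rw [← h u hu]
  rw [coeff_cj]; congr 1; group

theorem fix_of_coeff {P : Subgroup G} {a : MonoidAlgebra k G}
    (h : ∀ u ∈ P, ∀ x, a.coeff (u * x * u⁻¹) = a.coeff x) : Fix P a := fun u hu => by
  ext x
  rw [coeff_cj]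
  simpa using h u⁻¹ (P.inv_mem hu) x

theorem fix_one (P : Subgroup G) : Fix P (1 : MonoidAlgebra k G) := fun _ _ => map_one _

theorem fix_zero (P : Subgroup G) : Fix P (0 : MonoidAlgebra k G) := fun _ _ => map_zero _

theorem Fix.mul {P : Subgroup G} {a b : MonoidAlgebra k G} (ha : Fix P a) (hb : Fix P b) : Fix P (a * b) :=
  fun u hu => by rw [map_mul, ha u hu, hb u hu]

theorem Fix.add {P : Subgroup G} {a b : MonoidAlgebra k G} (ha : Fix P a) (hb : Fix P b) : Fix P (a + b) :=
  fun u hu => by rw [map_add, ha u hu, hb u hu]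

theorem Fix.sub {P : Subgroup G} {a b : MonoidAlgebra k G} (ha : Fix P a) (hb : Fix P b) : Fix P (a - b) :=
  fun u hu => by rw [map_sub, ha u hu, hb u hu]

theorem Fix.smul {P : Subgroup G} {a : MonoidAlgebra k G} (c : k) (ha : Fix P a) : Fix P (c • a) :=
  fun u hu => by rw [cj_smul, ha u hu]

theorem Fix.mono {P Q : Subgroup G} (h : Q ≤ P) {a : MonoidAlgebra k G} (ha : Fix P a) : Fix Q a :=
  fun u hu => ha u (h hu)

theorem fix_sum {P : Subgroup G} {ι : Type*} (s : Finset ι) (a : ι → MonoidAlgebra k G)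
    (h : ∀ i ∈ s, Fix P (a i)) : Fix P (∑ i ∈ s, a i) := fun u hu => by
  rw [map_sum]; exact Finset.sum_congr rfl fun i hi => h i hi u hu

theorem Fix.pow {P : Subgroup G} {a : MonoidAlgebra k G} (ha : Fix P a) (n : ℕ) : Fix P (a ^ n) :=
  fun u hu => by rw [map_pow, ha u hu]

/-- Support inside a subgroup. -/
def Supp (S : Subgroup G) (a : MonoidAlgebra k G) : Prop := ∀ x, a.coeff x ≠ 0 → x ∈ S

/-- Truncation to a subgroup. -/
noncomputable def cut (S : Subgroup G) : MonoidAlgebra k G →ₗ[k] MonoidAlgebra k G := by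
  classical exact
  { toFun := fun a => MonoidAlgebra.ofCoeff (a.coeff.filter (· ∈ S))
    map_add' := fun a b => by ext x; simp [Finsupp.filter_apply]
    map_smul' := fun c a => by ext x; simp [Finsupp.filter_apply] }

theorem coeff_cut (S : Subgroup G) (a : MonoidAlgebra k G) (x : G) [Decidable (x ∈ S)] :
    (cut S a).coeff x = if x ∈ S then a.coeff x else 0 := by
  classical
  simp [cut, Finsupp.filter_apply]

theorem coeff_cut_of_mem {S : Subgroup G} (a : MonoidAlgebra k G) {x : G} (hx : x ∈ S) :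
    (cut S a).coeff x = a.coeff x := by
  classical rw [coeff_cut, if_pos hx]

theorem coeff_cut_of_notMem {S : Subgroup G} (a : MonoidAlgebra k G) {x : G} (hx : x ∉ S) :
    (cut S a).coeff x = 0 := by
  classical rw [coeff_cut, if_neg hx]

theorem supp_cut (S : Subgroup G) (a : MonoidAlgebra k G) : Supp S (cut S a) := fun x hx => by
  by_contra h; exact hx (coeff_cut_of_notMem a h)

theorem cut_eq_self {S : Subgroup G} {a : MonoidAlgebra k G} (h : Supp S a) : cut S a = a := by
  ext x
  by_cases hx : x ∈ S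
  · exact coeff_cut_of_mem a hx
  · rw [coeff_cut_of_notMem a hx]
    by_contra hne
    exact hx (h x (Ne.symm hne))

theorem cut_cut_of_le {S T : Subgroup G} (h : S ≤ T) (a : MonoidAlgebra k G) : cut S (cut T a) = cut S a := by
  classical
  ext x
  rw [coeff_cut, coeff_cut, coeff_cut]
  split_ifs with h1 h2
  · rfl
  · exact absurd (h h1) h2
  · rfl

theorem Supp.mono {S T : Subgroup G} (h : S ≤ T) {a : MonoidAlgebra k G} (ha : Supp S a) : Supp T a :=
  fun x hx => h (ha x hx)

theorem supp_one (S : Subgroup G) : Supp S (1 : MonoidAlgebra k G) := fun x hx => by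
  classical
  simp [MonoidAlgebra.one_def, Finsupp.single_apply] at hx
  exact hx ▸ S.one_mem

theorem cut_one (S : Subgroup G) : cut S (1 : MonoidAlgebra k G) = 1 := cut_eq_self (supp_one S)

theorem Supp.sub {S : Subgroup G} {a b : MonoidAlgebra k G} (ha : Supp S a) (hb : Supp S b) : Supp S (a - b) :=
  fun x hx => by
    by_contra h
    have h1 : a.coeff x = 0 := by_contra fun h1 => h (ha x h1)
    have h2 : b.coeff x = 0 := by_contra fun h2 => h (hb x h2)
    simp [h1, h2] at hx

theorem Supp.smul {S : Subgroup G} {a : MonoidAlgebra k G} (c : k) (ha : Supp S a) : Supp S (c • a) :=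
  fun x hx => ha x fun h => hx (by simp [h])

theorem supp_sum {S : Subgroup G} {ι : Type*} (s : Finset ι) (a : ι → MonoidAlgebra k G)
    (h : ∀ i ∈ s, Supp S (a i)) : Supp S (∑ i ∈ s, a i) := fun x hx => by
  rw [MonoidAlgebra.coeff_sum, Finsupp.finsetSum_apply] at hx
  obtain ⟨i, hi, hne⟩ := Finset.exists_ne_zero_of_sum_ne_zero hx
  exact h i hi x hne

theorem coeff_mul_eq (a b : MonoidAlgebra k G) (g : G) :
    (a * b).coeff g = ∑ h, a.coeff h * b.coeff (h⁻¹ * g) := by
  classical
  conv_lhs => rw [← MonoidAlgebra.sum_single a]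
  rw [Finsupp.sum_fintype _ _ (fun h => by simp), Finset.sum_mul, MonoidAlgebra.coeff_sum, Finsupp.finsetSum_apply]
  refine Finset.sum_congr rfl fun h _ => ?_
  rw [MonoidAlgebra.coeff_single_mul_apply]

theorem Supp.mul {S : Subgroup G} {a b : MonoidAlgebra k G} (ha : Supp S a) (hb : Supp S b) : Supp S (a * b) :=
  fun x hx => by
    rw [coeff_mul_eq] at hx
    obtain ⟨h, -, hne⟩ := Finset.exists_ne_zero_of_sum_ne_zero hx
    have h1 := S.mul_mem (ha h (left_ne_zero_of_mul hne)) (hb _ (right_ne_zero_of_mul hne))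
    rwa [mul_inv_cancel_left] at h1

theorem supp_cj {S : Subgroup G} {a : MonoidAlgebra k G} (g : G) (ha : Supp S a) :
    Supp (S.map (MulAut.conj g).toMonoidHom) (cj g a) := fun x hx => by
  rw [coeff_cj] at hx
  exact ⟨_, ha _ hx, by simp only [MulEquiv.toMonoidHom_eq_coe, MonoidHom.coe_coe, MulAut.conj_apply]; group⟩

theorem cj_cut (g : G) (S : Subgroup G) (a : MonoidAlgebra k G) :
    cj g (cut S a) = cut (S.map (MulAut.conj g).toMonoidHom) (cj g a) := by
  classical
  ext x
  rw [coeff_cj, coeff_cut, coeff_cut, coeff_cj]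
  refine if_congr ⟨fun h => ⟨_, h, by simp only [MulEquiv.toMonoidHom_eq_coe, MonoidHom.coe_coe, MulAut.conj_apply]; group⟩,
    ?_⟩ rfl rfl
  rintro ⟨y, hy, rfl⟩
  simpa [mul_assoc] using hy

/-- A sum invariant under a `p`-group is the sum over the fixed points. -/
theorem sum_eq_sum_fixed {p : ℕ} [Fact p.Prime] [CharP k p] {S W : Type*} [Group S] [Finite S] [Fintype W]
    [MulAction S W] (hS : IsPGroup p S) (F : W → k) (hF : ∀ (s : S) (w : W), F (s • w) = F w)
    [DecidablePred fun w : W => ∀ s : S, s • w = w] :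
    ∑ w, F w = ∑ w with (∀ s : S, s • w = w), F w := by
  classical
  haveI := Fintype.ofFinite S
  rw [← Finset.sum_filter_add_sum_filter_not Finset.univ (fun w : W => ∀ s : S, s • w = w), add_eq_left]
  rw [← Finset.sum_fiberwise_of_maps_to (g := fun w : W => MulAction.orbit S w)
    (t := Finset.univ.image fun w : W => MulAction.orbit S w) (fun w _ => Finset.mem_image_of_mem _ (Finset.mem_univ w))]
  refine Finset.sum_eq_zero fun o ho => ?_
  obtain ⟨w₀, -, rfl⟩ := Finset.mem_image.1 ho
  by_cases hfix : ∀ s : S, s • w₀ = w₀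
  · refine Finset.sum_eq_zero fun w hw => ?_
    rw [Finset.mem_filter, Finset.mem_filter] at hw
    exfalso
    apply hw.1.2
    have hw' : w ∈ MulAction.orbit S w₀ := hw.2 ▸ MulAction.mem_orbit_self w
    obtain ⟨t, rfl⟩ := hw'
    intro s
    simp only [hfix]
  have hset : (Finset.univ.filter fun w : W => ¬ ∀ s : S, s • w = w).filter
      (fun w => MulAction.orbit S w = MulAction.orbit S w₀) = (MulAction.orbit S w₀).toFinset := by
    ext w
    simp only [Finset.mem_filter, Finset.mem_univ, true_and, Set.mem_toFinset]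
    refine ⟨fun h => h.2 ▸ MulAction.mem_orbit_self w, ?_⟩
    rintro ⟨t, rfl⟩
    refine ⟨fun h => hfix fun s => ?_, MulAction.orbit_smul t w₀⟩
    have h1 : w₀ = t • w₀ := by
      have := h t⁻¹
      rwa [inv_smul_smul] at this
    rw [h1]; exact h s
  rw [hset, Finset.sum_congr rfl fun w hw => ?_, Finset.sum_const, Set.toFinset_card, ← Nat.card_eq_fintype_card]
  · obtain ⟨n, hn⟩ := hS.card_orbit w₀
    rcases Nat.eq_zero_or_pos n with rfl | hn0
    · exfalso
      rw [pow_zero] at hn
      apply hfix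
      intro s
      have hs := (Nat.card_eq_one_iff_unique.1 hn).1
      exact congrArg Subtype.val (hs.elim ⟨s • w₀, MulAction.mem_orbit w₀ s⟩ ⟨w₀, MulAction.mem_orbit_self w₀⟩)
    · rw [hn, nsmul_eq_mul, Nat.cast_pow, CharP.cast_eq_zero k p, zero_pow hn0.ne', zero_mul]
  · rw [Set.mem_toFinset] at hw
    obtain ⟨t, rfl⟩ := hw
    exact hF t w₀

variable {p : ℕ}

/-- The Brauer map, as truncation to the centralizer. -/
noncomputable def Br (P : Subgroup G) : MonoidAlgebra k G →ₗ[k] MonoidAlgebra k G :=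
  cut (Subgroup.centralizer (P : Set G))

theorem br_one (P : Subgroup G) : Br P (1 : MonoidAlgebra k G) = 1 := cut_one _

theorem br_mul [Fact p.Prime] [CharP k p] {P : Subgroup G} (hP : IsPGroup p P) {a b : MonoidAlgebra k G}
    (ha : Fix P a) (hb : Fix P b) : Br P (a * b) = Br P a * Br P b := by
  classical
  ext c
  by_cases hc : c ∈ Subgroup.centralizer (P : Set G)
  · rw [Br, coeff_cut_of_mem _ hc, coeff_mul_eq, coeff_mul_eq]
    letI : MulAction P G := MulAction.compHom G (MulAut.conj.comp P.subtype)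
    have hs : ∀ (u : P) (g : G), u • g = (u : G) * g * (u : G)⁻¹ := fun u g => rfl
    rw [sum_eq_sum_fixed hP (fun h => a.coeff h * b.coeff (h⁻¹ * c)) ?_, Finset.sum_filter]
    · refine Finset.sum_congr rfl fun h _ => ?_
      have hiff : (∀ u : P, u • h = h) ↔ h ∈ Subgroup.centralizer (P : Set G) := by
        simp only [hs, mul_inv_eq_iff_eq_mul, Subgroup.mem_centralizer_iff, Subtype.forall, SetLike.mem_coe]
      split_ifs with hf
      · rw [coeff_cut_of_mem _ (hiff.1 hf), coeff_cut_of_mem _ (Subgroup.mul_mem _ (Subgroup.inv_mem _ (hiff.1 hf)) hc)]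
      · rw [coeff_cut_of_notMem _ (fun k => hf (hiff.2 k)), zero_mul]
    · intro u g
      simp only [hs]
      rw [ha.coeff u.2]
      have e : ((u : G) * g * (u : G)⁻¹)⁻¹ * c = (u : G) * (g⁻¹ * c) * (u : G)⁻¹ := by
        have hcu : c = (u : G) * c * (u : G)⁻¹ := by
          rw [(Subgroup.mem_centralizer_iff.1 hc _ u.2), mul_inv_cancel_right]
        conv_lhs => rw [hcu]
        group
      rw [e, hb.coeff u.2]
  · rw [Br, coeff_cut_of_notMem _ hc]
    by_contra h
    exact hc ((supp_cut _ a).mul (supp_cut _ b) c (Ne.symm h))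

theorem br_pow [Fact p.Prime] [CharP k p] {P : Subgroup G} (hP : IsPGroup p P) {a : MonoidAlgebra k G}
    (ha : Fix P a) (n : ℕ) : Br P (a ^ n) = Br P a ^ n := by
  induction n with
  | zero => rw [pow_zero, pow_zero, br_one]
  | succ n ih => rw [pow_succ, pow_succ, br_mul hP (ha.pow n) ha, ih]

theorem br_br {P Q : Subgroup G} (h : Q ≤ P) (a : MonoidAlgebra k G) : Br P (Br Q a) = Br P a :=
  cut_cut_of_le (Subgroup.centralizer_le h) a

/-- Central in a subgroup. -/
def CenIn (K : Subgroup G) (a : MonoidAlgebra k G) : Prop := Supp K a ∧ Fix K a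

theorem CenIn.comm {K : Subgroup G} {a b : MonoidAlgebra k G} (ha : CenIn K a) (hb : Supp K b) :
    a * b = b * a := by
  ext g
  rw [coeff_mul_eq, coeff_mul_eq]
  by_cases hg : g ∈ K
  · refine Fintype.sum_bijective (fun h => h⁻¹ * g)
      ⟨fun x y h => inv_injective (mul_right_cancel h), fun y => ⟨g * y⁻¹, by group⟩⟩ _ _ fun h => ?_
    by_cases hh : h ∈ K
    · have hx : h⁻¹ * g ∈ K := K.mul_mem (K.inv_mem hh) hg
      rw [show (h⁻¹ * g)⁻¹ * g = (h⁻¹ * g)⁻¹ * h * (h⁻¹ * g)⁻¹⁻¹ by group, ha.2.coeff (K.inv_mem hx), mul_comm]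
    · have h1 : a.coeff h = 0 := by_contra fun h1 => hh (ha.1 h h1)
      have h2 : a.coeff ((h⁻¹ * g)⁻¹ * g) = 0 := by
        refine by_contra fun h2 => hh ?_
        have h3 := ha.1 _ h2
        have : g⁻¹ * h * g ∈ K := by simpa [mul_assoc] using h3
        have := K.mul_mem (K.mul_mem hg this) (K.inv_mem hg)
        simpa [mul_assoc] using this
      rw [h1, h2, zero_mul, mul_zero]
  · have : ∀ h, a.coeff h * b.coeff (h⁻¹ * g) = 0 ∧ b.coeff h * a.coeff (h⁻¹ * g) = 0 := fun h => by
      constructor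
      · by_contra hne
        exact hg (by simpa using K.mul_mem (ha.1 _ (left_ne_zero_of_mul hne)) (hb _ (right_ne_zero_of_mul hne)))
      · by_contra hne
        exact hg (by simpa using K.mul_mem (hb _ (left_ne_zero_of_mul hne)) (ha.1 _ (right_ne_zero_of_mul hne)))
    rw [Finset.sum_eq_zero fun h _ => (this h).1, Finset.sum_eq_zero fun h _ => (this h).2]

theorem CenIn.mul {K : Subgroup G} {a b : MonoidAlgebra k G} (ha : CenIn K a) (hb : CenIn K b) : CenIn K (a * b) :=
  ⟨ha.1.mul hb.1, ha.2.mul hb.2⟩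

theorem CenIn.sub {K : Subgroup G} {a b : MonoidAlgebra k G} (ha : CenIn K a) (hb : CenIn K b) : CenIn K (a - b) :=
  ⟨ha.1.sub hb.1, ha.2.sub hb.2⟩

theorem cenIn_one (K : Subgroup G) : CenIn K (1 : MonoidAlgebra k G) := ⟨supp_one K, fix_one K⟩

theorem cenIn_sum {K : Subgroup G} {ι : Type*} (s : Finset ι) (a : ι → MonoidAlgebra k G)
    (h : ∀ i ∈ s, CenIn K (a i)) : CenIn K (∑ i ∈ s, a i) :=
  ⟨supp_sum s a fun i hi => (h i hi).1, fix_sum s a fun i hi => (h i hi).2⟩

theorem CenIn.cj {K : Subgroup G} {a : MonoidAlgebra k G} (g : G) (ha : CenIn K a) :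
    CenIn (K.map (MulAut.conj g).toMonoidHom) (cj g a) := by
  refine ⟨supp_cj g ha.1, ?_⟩
  rintro _ ⟨u, hu, rfl⟩
  conv_rhs => rw [← ha.2 u hu, cj_cj]
  rw [cj_cj]
  simp

/-- An element supported in the centralizer is fixed. -/
theorem fix_of_supp_centralizer {P : Subgroup G} {a : MonoidAlgebra k G}
    (h : Supp (Subgroup.centralizer (P : Set G)) a) : Fix P a := fix_of_coeff fun u hu x => by
  by_cases hx : x ∈ Subgroup.centralizer (P : Set G)
  · rw [Subgroup.mem_centralizer_iff.1 hx u hu, mul_inv_cancel_right]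
  · have h1 : a.coeff x = 0 := by_contra fun h1 => hx (h x h1)
    rw [h1]
    refine by_contra fun h2 => hx ?_
    have h3 := h _ h2
    have hc := Subgroup.mem_centralizer_iff.1 h3 u hu
    have : x = u * x * u⁻¹ := by
      have h4 := congrArg (fun t => u⁻¹ * t * u) hc
      simp only [mul_assoc, inv_mul_cancel, mul_one, inv_mul_cancel_left] at h4
      exact (mul_inv_eq_iff_eq_mul.2 h4).symm
    rwa [this]

/-- Block idempotents of a subgroup. -/
structure IsBlk (K : Subgroup G) (e : MonoidAlgebra k G) : Prop where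
  cen : CenIn K e
  idem : e * e = e
  ne : e ≠ 0
  scal : ∀ z, CenIn K z → ∃ c : k, IsNilpotent (e * z - c • e)

/-- Every subgroup's identity is a sum of block idempotents. -/
def Complete (k : Type*) [Field k] (G : Type*) [Group G] [Fintype G] : Prop :=
  ∀ K : Subgroup G, ∃ s : Finset (MonoidAlgebra k G), (∀ e ∈ s, IsBlk K e) ∧ ∑ e ∈ s, e = 1

/-- Primitivity. -/
theorem IsBlk.mul_idem {K : Subgroup G} {e w : MonoidAlgebra k G} (he : IsBlk K e) (hw : CenIn K w)
    (hww : w * w = w) : e * w = 0 ∨ e * w = e := by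
  obtain ⟨c, n, hn⟩ := he.scal w hw
  have hew : e * w = w * e := he.cen.comm hw.1
  set x := e * w with hx
  have hxx : x * x = x := by
    rw [hx, mul_assoc, ← mul_assoc w, ← hew, mul_assoc e w, hww, ← mul_assoc, he.idem]
  have hex : e * x = x := by rw [hx, ← mul_assoc, he.idem]
  have hxe : x * e = x := by rw [hx, mul_assoc, ← hew, ← mul_assoc, he.idem]
  have hpow : ∀ m : ℕ, (x - c • e) ^ m * x = (1 - c) ^ m • x := by
    intro m
    induction m with
    | zero => simp
    | succ m ih =>
      rw [pow_succ, mul_assoc, sub_mul, hxx, smul_mul_assoc, hex,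
        show x - c • x = (1 - c) • x by rw [sub_smul, one_smul], mul_smul_comm, ih, smul_smul, ← pow_succ']
  have h0 : (1 - c) ^ n • x = 0 := by rw [← hpow n, hn, zero_mul]
  rcases smul_eq_zero.1 h0 with hc | hx0
  · right
    have hc1 : c = 1 := (sub_eq_zero.1 (pow_eq_zero_iff'.1 hc).1).symm
    rw [hc1, one_smul] at hn
    have hidem : IsIdempotentElem (e - x) := by
      show (e - x) * (e - x) = e - x
      rw [sub_mul, mul_sub, mul_sub, he.idem, hex, hxe, hxx]; abel
    rcases Nat.eq_zero_or_pos n with rfl | hn0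
    · rw [pow_zero] at hn
      exact absurd (by rw [← mul_one e, hn, mul_zero]) he.ne
    have h1 : (x - e) ^ n = (-1) ^ n * (e - x) ^ n := by rw [← neg_pow, neg_sub]
    rw [h1] at hn
    obtain ⟨m, rfl⟩ : ∃ m, n = m + 1 := ⟨n - 1, by omega⟩
    rw [hidem.pow_succ_eq m] at hn
    have h2 : e - x = 0 := by
      have := congrArg (fun t => (-1 : MonoidAlgebra k G) ^ (m + 1) * t) hn
      rwa [← mul_assoc, ← pow_add, Even.neg_one_pow ⟨m + 1, rfl⟩, one_mul, mul_zero] at this
    exact (sub_eq_zero.1 h2).symm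
  · exact Or.inl hx0

theorem IsBlk.eq_or_mul_eq_zero {K : Subgroup G} {e e' : MonoidAlgebra k G} (he : IsBlk K e) (he' : IsBlk K e') :
    e * e' = 0 ∨ e = e' := by
  rcases he.mul_idem he'.cen he'.idem with h | h
  · exact Or.inl h
  rcases he'.mul_idem he.cen he.idem with h' | h'
  · exact Or.inl (by rw [he.cen.comm he'.cen.1, h'])
  · exact Or.inr (by rw [← h, he.cen.comm he'.cen.1, h'])

theorem exists_blk_mul_ne (hc : Complete k G) {K : Subgroup G} {w : MonoidAlgebra k G} (h : w ≠ 0) :
    ∃ e, IsBlk K e ∧ e * w ≠ 0 := by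
  obtain ⟨s, hs, h1⟩ := hc K
  by_contra hcon
  push Not at hcon
  apply h
  rw [← one_mul w, ← h1, Finset.sum_mul]
  exact Finset.sum_eq_zero fun e he => hcon e (hs e he)

/-- A non-zero central idempotent contains a block. -/
theorem exists_blk_le (hc : Complete k G) {K : Subgroup G} {w : MonoidAlgebra k G} (h : w ≠ 0) (hw : CenIn K w)
    (hww : w * w = w) : ∃ e, IsBlk K e ∧ e * w = e := by
  obtain ⟨e, he, hne⟩ := exists_blk_mul_ne hc (K := K) h
  exact ⟨e, he, (he.mul_idem hw hww).resolve_left hne⟩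

theorem mem_of_blk (hc : Complete k G) {K : Subgroup G} {s : Finset (MonoidAlgebra k G)}
    (hs : ∀ e ∈ s, IsBlk K e) (h1 : ∑ e ∈ s, e = 1) {e : MonoidAlgebra k G} (he : IsBlk K e) : e ∈ s := by
  by_contra hn
  apply he.ne
  rw [← mul_one e, ← h1, Finset.mul_sum]
  exact Finset.sum_eq_zero fun f hf => (he.eq_or_mul_eq_zero (hs f hf)).resolve_right fun h => hn (h ▸ hf)

theorem IsBlk.cj {K : Subgroup G} {e : MonoidAlgebra k G} (he : IsBlk K e) (g : G) :
    IsBlk (K.map (MulAut.conj g).toMonoidHom) (cj g e) where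
  cen := he.cen.cj g
  idem := by rw [← map_mul, he.idem]
  ne := fun h => he.ne (cj_injective g (by rw [h, map_zero]))
  scal := fun z hz => by
    have hz' : CenIn K (PairAlg.cj g⁻¹ z) := by
      have h := hz.cj g⁻¹
      rwa [Subgroup.map_map, show ((MulAut.conj g⁻¹).toMonoidHom.comp (MulAut.conj g).toMonoidHom) = MonoidHom.id G from
        MonoidHom.ext fun x => by simp [mul_assoc], Subgroup.map_id] at h
    obtain ⟨c, hc⟩ := he.scal _ hz'
    refine ⟨c, ?_⟩
    have := hc.map (PairAlg.cj g)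
    rwa [map_sub, map_mul, cj_smul, cj_cj_inv] at this

end CfsgLib.PairAlg
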